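/-
Degree-one Hilbert functor of a separated morphism: families of degree one are graphs of sections.
-/
import Groth.Prelude.Def_HilbD

set_option autoImplicit false
set_option backward.isDefEq.respectTransparency false

universe u

open CategoryTheory CategoryTheory.Limits AlgebraicGeometry

namespace Groth.Agent.H27HilbOne

variable {X S : Scheme.{u}} (f : X ⟶ S)

/-- The graph morphism of a section. -/
noncomputable def graph (T : Over S) (x : T.left ⟶ X) (hx : x ≫ f = T.hom) : T.left ⟶ PicF.XT f T :=
  pullback.lift x (𝟙 T.left) (by simpa using hx)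

@[simp, reassoc]
lemma graph_fst (T : Over S) (x : T.left ⟶ X) (hx : x ≫ f = T.hom) :
    graph f T x hx ≫ pullback.fst f T.hom = x := pullback.lift_fst _ _ _

@[simp, reassoc]
lemma graph_snd (T : Over S) (x : T.left ⟶ X) (hx : x ≫ f = T.hom) :
    graph f T x hx ≫ pullback.snd f T.hom = 𝟙 _ := pullback.lift_snd _ _ _

lemma secGraph_eq (T : Over S) (x : T.left ⟶ X) (hx : x ≫ f = T.hom) :
    HilbD.secGraph f T x hx = (graph f T x hx).ker := rfl

variable [IsSeparated f]

instance graph_isClosedImmersion (T : Over S) (x : T.left ⟶ X) (hx : x ≫ f = T.hom) :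
    IsClosedImmersion (graph f T x hx) := by
  haveI : IsClosedImmersion (graph f T x hx ≫ pullback.snd f T.hom) := by
    rw [graph_snd]; infer_instance
  exact IsClosedImmersion.of_comp (graph f T x hx) (pullback.snd f T.hom)

/-- The structure map of the graph of a section is an isomorphism. -/
lemma isIso_secGraph_proj (T : Over S) (x : T.left ⟶ X) (hx : x ≫ f = T.hom) :
    IsIso ((HilbD.secGraph f T x hx).subschemeι ≫ PicF.XTproj f T) := by
  have h : (graph f T x hx).toImage ≫ (graph f T x hx).imageι ≫ pullback.snd f T.hom = 𝟙 _ := by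
    rw [Scheme.Hom.toImage_imageι_assoc, graph_snd]
  have h' : (graph f T x hx).imageι ≫ pullback.snd f T.hom = inv (graph f T x hx).toImage := by
    rw [← cancel_epi (graph f T x hx).toImage, h, IsIso.hom_inv_id]
  change IsIso ((graph f T x hx).imageι ≫ pullback.snd f T.hom)
  rw [h']
  infer_instance

/-- Isomorphisms are finite locally free of degree one. -/
lemma isFinLocFreeOfDeg_one_of_isIso {A B : Scheme.{u}} (g : A ⟶ B) [IsIso g] :
    Mor2.IsFinLocFreeOfDeg 1 g := by
  refine ⟨⟨inferInstance, inferInstance, inferInstance⟩, fun y => ?_⟩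
  rw [Scheme.Hom.finrank_eq_one_of_isIso g]
  rfl

/-- The graph of a section as an element of `Hilb^1`. -/
noncomputable def graphObj (T : Over S) (x : T.left ⟶ X) (hx : x ≫ f = T.hom) :
    HilbD.Obj f 1 T :=
  ⟨HilbD.secGraph f T x hx,
    haveI := isIso_secGraph_proj f T x hx
    isFinLocFreeOfDeg_one_of_isIso _⟩

/-- Every member of `Hilb^1` is the graph of a section. -/
lemma exists_eq_secGraph {T : Over S} (Z : HilbD.Obj f 1 T) :
    ∃ (x : T.left ⟶ X) (hx : x ≫ f = T.hom), Z.1 = HilbD.secGraph f T x hx := by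
  obtain ⟨⟨hfin, hflat, hlfp⟩, hrk⟩ := Z.2
  haveI := hfin; haveI := hflat; haveI := hlfp
  haveI : IsIso (Z.1.subschemeι ≫ PicF.XTproj f T) :=
    (Scheme.Hom.isIso_iff_finrank_eq _).mpr (funext hrk)
  set e := Z.1.subschemeι ≫ PicF.XTproj f T with he
  let s : T.left ⟶ PicF.XT f T := inv e ≫ Z.1.subschemeι
  have hs : s ≫ pullback.snd f T.hom = 𝟙 _ := by
    simp only [s, Category.assoc]
    exact IsIso.inv_hom_id e
  let x : T.left ⟶ X := s ≫ pullback.fst f T.hom
  have hx : x ≫ f = T.hom := by
    simp only [x, Category.assoc, pullback.condition]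
    rw [reassoc_of% hs]
  have hg : graph f T x hx = s := by
    apply pullback.hom_ext <;> simp [x, hs]
  refine ⟨x, hx, ?_⟩
  rw [secGraph_eq, hg, Scheme.Hom.ker_comp_of_isIso, Scheme.IdealSheafData.ker_subschemeι]

omit [IsSeparated f] in
lemma pull_eq_comap {T T' : Over S} (g : T' ⟶ T) (I : (PicF.XT f T).IdealSheafData) :
    HilbD.pull f g I = I.comap (PicF.XTmap f g) := by
  rw [HilbD.pull, Scheme.IdealSheafData.comap,
    ← Scheme.Hom.ker_comp_of_isIso (pullbackSymmetry _ _).hom, pullbackSymmetry_hom_comp_snd]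

/-- Base change of a graph is the graph of the composite. -/
lemma pull_secGraph {T T' : Over S} (g : T' ⟶ T) (x : T.left ⟶ X) (hx : x ≫ f = T.hom) :
    HilbD.pull f g (HilbD.secGraph f T x hx) =
      HilbD.secGraph f T' (g.left ≫ x) (by rw [Category.assoc, hx, Over.w g]) := by
  have hx' : (g.left ≫ x) ≫ f = T'.hom := by rw [Category.assoc, hx, Over.w g]
  rw [pull_eq_comap, secGraph_eq, secGraph_eq]
  have hsq : IsPullback (pullback.snd f T'.hom) (PicF.XTmap f g) g.left (pullback.snd f T.hom) := by
    have h1 : IsPullback (PicF.XTmap f g ≫ pullback.fst f T.hom) (pullback.snd f T'.hom) f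
        (g.left ≫ T.hom) := by
      rw [Over.w g, show PicF.XTmap f g ≫ pullback.fst f T.hom = pullback.fst f T'.hom by
        simp [PicF.XTmap]]
      exact IsPullback.of_hasPullback f T'.hom
    exact (IsPullback.of_right h1 (by simp [PicF.XTmap]) (IsPullback.of_hasPullback f T.hom)).flip
  have hpb : IsPullback g.left (graph f T' (g.left ≫ x) hx') (graph f T x hx) (PicF.XTmap f g) := by
    refine IsPullback.of_bot (v₂₁ := pullback.snd f T'.hom) ?_ ?_ hsq.flip
    · rw [graph_snd, graph_snd]
      exact IsPullback.of_vert_isIso ⟨by simp⟩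
    · apply pullback.hom_ext
      · simp [PicF.XTmap]
      · simp only [PicF.XTmap, Category.assoc, pullback.lift_snd, graph_snd, Category.comp_id]
        rw [← Category.assoc (graph f T' _ hx'), graph_snd]
        exact (Category.id_comp _).symm
  rw [← Scheme.IdealSheafData.ker_fst_of_isClosedImmersion,
    ← Scheme.Hom.ker_comp_of_isIso hpb.flip.isoPullback.hom, hpb.flip.isoPullback_hom_fst]

/-- A section is determined by its graph. -/
lemma secGraph_injective {T : Over S} (x y : T.left ⟶ X) (hx : x ≫ f = T.hom) (hy : y ≫ f = T.hom)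
    (h : HilbD.secGraph f T x hx = HilbD.secGraph f T y hy) : x = y := by
  rw [secGraph_eq, secGraph_eq] at h
  have hk : (graph f T y hy).imageι.ker ≤ (graph f T x hx).ker := by
    rw [show (graph f T y hy).imageι.ker = (graph f T y hy).ker from
      Scheme.IdealSheafData.ker_subschemeι _, h]
  let l := IsClosedImmersion.lift (graph f T y hy) (graph f T x hx) (le_of_eq h.symm)
  have hl : l ≫ graph f T y hy = graph f T x hx := IsClosedImmersion.lift_fac _ _ _
  have hl1 : l = 𝟙 _ := by
    have := congr($hl ≫ pullback.snd f T.hom)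
    simpa using this
  have := congr($hl ≫ pullback.fst f T.hom)
  simpa [hl1] using this.symm

end Groth.Agent.H27HilbOne
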